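import Groth.Agent.L12.ExtSh.Free
import Groth.Agent.L12.ExtSh.GoodGlue
import Groth.Agent.L12.ExtSh.TensBasis
import Groth.Agent.L00.TensorMod
import Groth.Agent.L12.FrobLift.Chart
import Groth.Agent.L19.OmegaSh.DiffCompat

/-!
# Morphisms of modules sending bases to bases
-/

set_option autoImplicit false
set_option linter.style.haveILetI false
set_option backward.isDefEq.respectTransparency false
set_option backward.isDefEq.respectTransparency.types false

universe u

open CategoryTheory CategoryTheory.Limits AlgebraicGeometry TopologicalSpace Opposite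
open Groth.L18.Frame (rs ro rs_rs ro_ro rs_smul pull pull_rs pull_smul)
open Groth.L19.ProjBdl (IsBasisOn lc app_lc app_rs)
open MonoidalCategory

noncomputable section

namespace Groth.L05.BirForms

variable {X : Scheme.{u}}

/-- `β` sends some basis over `W` to a basis. -/
def BasisMap {M N : X.Modules} (β : M ⟶ N) (W : X.Opens) : Prop :=
  ∃ (n : ℕ) (b : Fin n → Γ(M, W)), IsBasisOn M W b ∧ IsBasisOn N W fun i => β.app W (b i)

theorem BasisMap.bijective {M N : X.Modules} {β : M ⟶ N} {W : X.Opens} (h : BasisMap β W) {O : X.Opens}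
    (hO : O ≤ W) : Function.Bijective (β.app O) := by
  obtain ⟨n, b, hb, hb'⟩ := h
  have he : ⇑(β.app O) ∘ lc M b hO = lc N (fun i => β.app W (b i)) hO := funext fun c => app_lc β b hO c
  exact (Function.Bijective.of_comp_iff _ (hb O hO)).1 (he ▸ hb' O hO)

theorem BasisMap.mk' {M N : X.Modules} {β : M ⟶ N} {W : X.Opens} {n : ℕ} {b : Fin n → Γ(M, W)}
    {b' : Fin n → Γ(N, W)} (hb : IsBasisOn M W b) (hb' : IsBasisOn N W b') (h : ∀ i, β.app W (b i) = b' i) :
    BasisMap β W :=
  ⟨n, b, hb, by rw [funext h]; exact hb'⟩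

theorem isBasisOn_app {M N : X.Modules} (β : M ⟶ N) {W : X.Opens}
    (h : ∀ O : X.Opens, O ≤ W → Function.Bijective (β.app O)) {n : ℕ} {b : Fin n → Γ(M, W)}
    (hb : IsBasisOn M W b) : IsBasisOn N W fun i => β.app W (b i) := fun O hO => by
  rw [show lc N (fun i => β.app W (b i)) hO = ⇑(β.app O) ∘ lc M b hO from funext fun c => (app_lc β b hO c).symm]
  exact (h O hO).comp (hb O hO)

theorem bijective_app_iso {M N : X.Modules} (e : M ≅ N) (O : X.Opens) : Function.Bijective (e.hom.app O) :=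
  Function.bijective_iff_has_inverse.2 ⟨e.inv.app O,
    fun s => congr($(congrArg (fun φ => Scheme.Modules.Hom.app φ O) e.hom_inv_id) s),
    fun s => congr($(congrArg (fun φ => Scheme.Modules.Hom.app φ O) e.inv_hom_id) s)⟩

theorem isBasisOn_iso {M N : X.Modules} (e : M ≅ N) {W : X.Opens} {n : ℕ} {b : Fin n → Γ(M, W)}
    (hb : IsBasisOn M W b) : IsBasisOn N W fun i => e.hom.app W (b i) :=
  isBasisOn_app e.hom (fun O _ => bijective_app_iso e O) hb

theorem BasisMap.mono {M N : X.Modules} {β : M ⟶ N} {W : X.Opens} (h : BasisMap β W) {W' : X.Opens}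
    (hW : W' ≤ W) : BasisMap β W' := by
  obtain ⟨n, b, hb, hb'⟩ := h
  refine ⟨n, _, hb.mono hW, ?_⟩
  simp only [app_rs]
  exact hb'.mono hW

theorem BasisMap.iso_comp_iso {M M' N N' : X.Modules} {β : M ⟶ N} {W : X.Opens} (h : BasisMap β W)
    (e : M' ≅ M) (e' : N ≅ N') : BasisMap (e.hom ≫ β ≫ e'.hom) W := by
  obtain ⟨n, b, hb, hb'⟩ := h
  refine ⟨n, _, isBasisOn_iso e.symm hb, ?_⟩
  convert isBasisOn_iso e' hb' using 1
  funext i
  show e'.hom.app W (β.app W (e.hom.app W (e.inv.app W (b i)))) = _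
  rw [show e.hom.app W (e.inv.app W (b i)) = b i from
    congr($(congrArg (fun φ => Scheme.Modules.Hom.app φ W) e.inv_hom_id) (b i))]

/-! ### Tensor products -/

open Groth.L18.GenLoc (tens)
open Groth.L00.Tensor (PX pre shf preF unit)

set_option maxHeartbeats 400000 in
theorem tensorMap_tens {M M' N N' : X.Modules} (f : M ⟶ M') (g : N ⟶ N') (U : X.Opens) (m : Γ(M, U))
    (n : Γ(N, U)) :
    (Groth.L00.Tensor.tensorMap f g).app U (tens M N U m n) = tens M' N' U (f.app U m) (g.app U n) := by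
  let φ : (show PX X from pre M ⊗ pre N) ⟶ (show PX X from pre M' ⊗ pre N') :=
    (preF X).map f ⊗ₘ (preF X).map g
  have h : φ ≫ unit _ = unit _ ≫ (preF X).map ((shf X).map φ) :=
    (PresheafOfModules.sheafificationAdjunction (R := X.ringCatSheaf) (𝟙 X.ringCatSheaf.obj)).unit.naturality φ
  exact (congr($(congrArg (fun ψ => PresheafOfModules.Hom.app ψ (op U)) h) _)).symm

set_option maxHeartbeats 400000 in
theorem BasisMap.tensor {M M' N N' : X.Modules} {f : M ⟶ M'} {g : N ⟶ N'} {W : X.Opens} (hf : BasisMap f W)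
    (hg : BasisMap g W) : BasisMap (Groth.L00.Tensor.tensorMap f g) W := by
  obtain ⟨n, b, hb, hb'⟩ := hf
  obtain ⟨m, c, hc, hc'⟩ := hg
  exact BasisMap.mk' (Groth.L12.ExtSh.isBasisOn_tens hb hc) (Groth.L12.ExtSh.isBasisOn_tens hb' hc')
    fun a => tensorMap_tens f g W _ _

/-! ### Exterior powers -/

/-- Exterior powers are functorial, preserving bases on affine opens. -/
theorem exists_wedgeHom {E E' L L' : X.Modules} (c : E ⟶ E') {q : ℕ} (hL : ExtPow.IsExtPow q E L)
    (hL' : ExtPow.IsExtPow q E' L') :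
    ∃ β : L ⟶ L', ∀ W : X.Opens, IsAffineOpen W → BasisMap c W → BasisMap β W := by
  obtain ⟨φ, hφ⟩ := hL
  obtain ⟨φ', hφ'⟩ := hL'
  let cl : ∀ U : X.affineOpens, E.val.obj (op U.1) →ₗ[Γ(X, U.1)] E'.val.obj (op U.1) := fun U =>
    Groth.L04.KSh.appₗ c U.1
  let ψ : ∀ U : X.affineOpens, Γ(L, U.1) →ₗ[Γ(X, U.1)] Γ(L', U.1) := fun U =>
    (φ' U).symm.toLinearMap.comp ((exteriorPower.map q (cl U)).comp (φ U).toLinearMap)
  have hψ : ∀ (U : X.affineOpens) (v : Fin q → E.val.obj (op U.1)),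
      ψ U ((φ U).symm (exteriorPower.ιMulti _ q v)) =
        (φ' U).symm (exteriorPower.ιMulti _ q (M := E'.val.obj (op U.1)) fun j => c.app U.1 (v j)) := fun U v => by
    show (φ' U).symm (exteriorPower.map q (cl U) (φ U ((φ U).symm _))) = _
    rw [LinearEquiv.apply_symm_apply, exteriorPower.map_apply_ιMulti]
    rfl
  obtain ⟨β, hβ⟩ := Groth.L12.ExtSh.exists_hom_of_good (G := fun _ => True)
    (fun x O hx => by
      obtain ⟨_, ⟨U, hU, rfl⟩, hxU, hUO⟩ := X.isBasis_affineOpens.exists_subset_of_mem_open hx O.2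
      exact ⟨⟨U, hU⟩, trivial, hxU, hUO⟩)
    (fun U _ => ψ U) (fun U V _ _ h s => by
      obtain ⟨z, rfl⟩ := (φ U).symm.surjective s
      have hz : z ∈ Submodule.span Γ(X, U.1) (Set.range (exteriorPower.ιMulti Γ(X, U.1) q (M := E.val.obj (op U.1)))) := by
        rw [exteriorPower.ιMulti_span]; exact Submodule.mem_top
      induction hz using Submodule.span_induction with
      | zero => simp [rs]
      | mem w hw =>
        obtain ⟨v, rfl⟩ := hw
        rw [hψ, show rs L h ((φ U).symm (exteriorPower.ιMulti _ q v)) = _ from hφ U V h v, hψ,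
          show rs L' h ((φ' U).symm _) = _ from hφ' U V h _]
        exact congrArg (fun w => (φ' V).symm (exteriorPower.ιMulti _ q w)) (funext fun j => app_rs c h (v j))
      | add a b _ _ ha hb => simp only [map_add, rs] at ha hb ⊢; rw [ha, hb]
      | smul r a _ ha => rw [map_smul, rs_smul, map_smul, map_smul, rs_smul, ha])
  refine ⟨β, fun W hW hc => ?_⟩
  obtain ⟨n, b, hb, hb'⟩ := hc
  obtain ⟨ks⟩ := Groth.L18.PlkAlg.exists_enum q n
  refine ⟨_, _, Groth.L12.ExtSh.isBasisOn_extPow φ hφ (U := ⟨W, hW⟩) hb ks, ?_⟩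
  convert Groth.L12.ExtSh.isBasisOn_extPow φ' hφ' (U := ⟨W, hW⟩) hb' ks using 1
  funext k
  exact (hβ ⟨W, hW⟩ trivial _).trans (hψ ⟨W, hW⟩ _)

/-! ### Differentials -/

/-- A morphism that is an open immersion on `W` identifies differentials there. -/
theorem exists_diff_basisMap {k : Type u} [Field k] {V Y Z : Scheme.{u}} [IsAffine Z]
    (sV : V ⟶ Spec (CommRingCat.of k)) (sY : Y ⟶ Spec (CommRingCat.of k)) [QuasiSeparated sV] [QuasiSeparated sY]
    (g : V ⟶ Y) (hg : sV = g ≫ sY) (j : Z ⟶ V) [IsOpenImmersion j] [IsOpenImmersion (j ≫ g)]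
    {U : Y.Opens} (hU : IsAffineOpen U) (hjU : (j ≫ g).opensRange ≤ U) {n : ℕ} (t : Fin n → Γ(Y, U))
    (ht : letI := (Groth.L12.FrobLift.baseHom sY U).toAlgebra
      ∃ b : Module.Basis (Fin n) Γ(Y, U) Ω[Γ(Y, U)⁄k], ∀ i, b i = KaehlerDifferential.D k Γ(Y, U) (t i)) :
    ∃ c : (Scheme.Modules.pullback g).obj (Omega.sheaf sY) ⟶ Omega.sheaf sV, BasisMap c j.opensRange := by
  obtain ⟨c, hc, -⟩ := Groth.L19.OmegaSh.existsUnique_diffCompat (f := sY) (f' := sV) g (𝟙 _)
    ((Category.comp_id _).trans hg) (Groth.L19.OmegaSh.isUniversal_dOmega (f := sY)) (OmegaSh.dOmega sV)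
  have hWaff : IsAffineOpen j.opensRange := isAffineOpen_opensRange j
  have hW : j.opensRange ≤ g ⁻¹ᵁ U := by
    rintro _ ⟨z, rfl⟩
    exact hjU ⟨z, rfl⟩
  have e1 : (⊤ : Z.Opens) ≤ j ⁻¹ᵁ j.opensRange := fun z _ => ⟨z, rfl⟩
  let φ := g.appLE U j.opensRange hW
  have hbij : Function.Bijective (j.appLE j.opensRange ⊤ e1).hom := by
    haveI : IsIso (j.appLE j.opensRange ⊤ e1) := by
      have h : ⊤ = j ⁻¹ᵁ j.opensRange := (j.preimage_opensRange).symm
      rw [Scheme.Hom.appLE]
      haveI : IsIso (homOfLE e1) := ⟨homOfLE le_top, rfl, rfl⟩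
      haveI := j.isIso_app j.opensRange le_rfl
      infer_instance
    exact ConcreteCategory.bijective_of_isIso _
  have hetale : φ.hom.Etale := by
    have h1 := (j ≫ g).etale_appLE hU (isAffineOpen_top Z) (fun z _ => hjU ⟨z, rfl⟩)
    have h2 : φ ≫ j.appLE j.opensRange ⊤ e1 = (j ≫ g).appLE U ⊤ (fun z _ => hjU ⟨z, rfl⟩) :=
      Scheme.Hom.appLE_comp_appLE _ _ _ _ _ _ _
    let e := RingEquiv.ofBijective _ hbij
    have h3 : φ.hom = e.symm.toRingHom.comp ((j ≫ g).appLE U ⊤ (fun z _ => hjU ⟨z, rfl⟩)).hom := by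
      ext a
      refine (e.symm_apply_apply (φ a)).symm.trans ?_
      exact congrArg e.symm congr($h2 a)
    rw [h3]
    exact RingHom.Etale.respectsIso.1 _ e.symm h1
  have hbV : IsBasisOn (Omega.sheaf sV) j.opensRange fun i => OmegaSh.dSect sV j.opensRange (φ (t i)) := by
    refine fun O hO => Groth.L12.FrobLift.isBasisS_dSect sV hWaff (fun i => φ (t i)) ?_ O hO
    letI := (Groth.L12.FrobLift.baseHom sY U).toAlgebra
    letI := (Groth.L12.FrobLift.baseHom sV j.opensRange).toAlgebra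
    letI : Algebra Γ(Y, U) Γ(V, j.opensRange) := φ.hom.toAlgebra
    haveI : IsScalarTower k Γ(Y, U) Γ(V, j.opensRange) := IsScalarTower.of_algebraMap_eq fun a => by
      have h : sY.appLE ⊤ U le_top ≫ φ = sV.appLE ⊤ j.opensRange le_top := by
        rw [Scheme.Hom.appLE_comp_appLE]
        subst hg
        rfl
      exact (congr($h ((Scheme.ΓSpecIso (CommRingCat.of k)).inv a))).symm
    haveI : Algebra.Etale Γ(Y, U) Γ(V, j.opensRange) := RingHom.etale_algebraMap.1 hetale
    obtain ⟨b, hb⟩ := ht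
    refine ⟨(b.baseChange Γ(V, j.opensRange)).map
      (KaehlerDifferential.tensorKaehlerEquivOfFormallyEtale k Γ(Y, U) Γ(V, j.opensRange)), fun i => ?_⟩
    rw [Module.Basis.map_apply, Module.Basis.baseChange_apply, hb,
      KaehlerDifferential.tensorKaehlerEquivOfFormallyEtale_apply, KaehlerDifferential.mapBaseChange_tmul,
      one_smul, KaehlerDifferential.map_D]
    rfl
  have hbY : IsBasisOn (Omega.sheaf sY) U fun i => OmegaSh.dSect sY U (t i) := fun O hO =>
    Groth.L12.FrobLift.isBasisS_dSect sY hU t ht O hO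
  refine ⟨c, n, _, (hbY.pullback g).mono hW, ?_⟩
  convert hbV using 1
  funext i
  rw [app_rs]
  refine (congrArg (rs (Omega.sheaf sV) hW) (hc U (t i))).trans ?_
  exact (OmegaSh.dSect_map sV hW (g.app U (t i))).symm

end Groth.L05.BirForms
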