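import Groth.Agent.L07.HartogsLocNoeth
import Groth.Agent.L19.ProjBdl.Basis
import Groth.Agent.L16.HomSh.Basic
import Groth.Agent.L29.DCoh.Flat
import Groth.Agent.L29.DCoh.PCQCoh

/-!
# Sections of locally free modules: extension and restriction
-/

set_option autoImplicit false
set_option linter.style.haveILetI false
set_option backward.isDefEq.respectTransparency false
set_option backward.isDefEq.respectTransparency.types false

universe u

open CategoryTheory CategoryTheory.Limits AlgebraicGeometry TopologicalSpace Opposite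
open Groth.L18.Frame (rs ro rs_rs ro_ro rs_smul)
open Groth.L19.ProjBdl (IsBasisOn lc lc_coord coord coord_rs)

noncomputable section

namespace Groth.L05.BirForms

variable {X : Scheme.{u}} {M : X.Modules}

theorem eq_zero_of_ro [IsIntegral X] {O W : X.Opens} (h : W ≤ O) (hW : (W : Set X).Nonempty) {a : Γ(X, O)}
    (ha : ro h a = 0) : a = 0 := by
  obtain ⟨x, hx⟩ := hW
  haveI : Nonempty O := ⟨⟨x, h hx⟩⟩
  apply germ_injective_of_isIntegral X x (h hx)
  rw [map_zero, ← X.presheaf.germ_res_apply (homOfLE h) x hx a]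
  exact (congrArg (X.presheaf.germ W x hx) ha).trans (map_zero _)

/-- A section of a locally free module on an integral scheme vanishes if it vanishes on a nonempty open. -/
theorem eq_zero_of_rs [IsIntegral X] (hM : FlatMod.IsFinLocFree M) {W : X.Opens} (hW : (W : Set X).Nonempty)
    (s : Γ(M, ⊤)) (hs : rs M (le_top : W ≤ ⊤) s = 0) : s = 0 := by
  choose V n b hV hxV _hVO hb using fun x => Groth.L19.ProjBdl.exists_basisOn hM x ⊤ trivial
  refine Groth.L16.HomSh.ext_cover M V (fun x => le_top) (fun x _ => Opens.mem_iSup.2 ⟨x, hxV x⟩) fun x => ?_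
  rw [show rs M (le_top : V x ≤ ⊤) (0 : Γ(M, ⊤)) = 0 from map_zero _]
  have hne : ((V x ⊓ W : X.Opens) : Set X).Nonempty :=
    nonempty_preirreducible_inter (V x).2 W.2 ⟨x, hxV x⟩ hW
  have hz : coord (hb x) le_rfl (rs M (le_top : V x ≤ ⊤) s) = 0 := by
    funext i
    refine eq_zero_of_ro (inf_le_left : V x ⊓ W ≤ V x) hne ?_
    have h1 := congrFun (coord_rs (hb x) le_rfl (inf_le_left : V x ⊓ W ≤ V x) (rs M (le_top : V x ≤ ⊤) s)) i
    refine h1.symm.trans ?_
    have h2 : rs M (inf_le_left : V x ⊓ W ≤ V x) (rs M (le_top : V x ≤ ⊤) s) = 0 := by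
      rw [rs_rs, ← rs_rs M (le_top : W ≤ ⊤) (inf_le_right : V x ⊓ W ≤ W), hs]
      exact map_zero _
    rw [h2]
    exact congrFun (Groth.L19.ProjBdl.coord_eq (hb x) _ (c := 0) (by simp [lc])) i
  rw [← lc_coord (hb x) le_rfl (rs M (le_top : V x ≤ ⊤) s), hz]
  simp [lc]

/-- Sections extend over closed subsets of codimension at least two. -/
theorem bijective_res_top [IsLocallyNoetherian X] (hX : Pi1.IsNormalScheme X) (hM : FlatMod.IsFinLocFree M)
    (U : X.Opens) (hU : ∀ x : X, ringKrullDim (X.presheaf.stalk x) ≤ 1 → x ∈ U) :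
    Function.Bijective (rs M (le_top : U ≤ ⊤)) := by
  haveI := Groth.L29.DC.PCQCoh.isQCoh_of_isFinLocFree hM
  have key : ∀ O : X.affineOpens, Function.Bijective (rs M (inf_le_left : O.1 ⊓ U ≤ O.1)) := fun O =>
    Groth.L07.HartogsLocNoeth.bijective_res_of_isLocallyNoetherian M hX (Groth.L29.DC.isFlat_of_isFinLocFree hM)
      U hU O.2 inf_le_left rfl
  have hcov : (⊤ : X.Opens) ≤ ⨆ O : X.affineOpens, O.1 := (iSup_affineOpens_eq_top X).ge
  constructor
  · intro a b hab
    refine Groth.L16.HomSh.ext_cover M (fun O : X.affineOpens => O.1) (fun O => le_top) hcov fun O => (key O).1 ?_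
    rw [rs_rs, rs_rs, ← rs_rs M (le_top : U ≤ ⊤) (inf_le_right : O.1 ⊓ U ≤ U), hab, rs_rs]
  · intro s
    choose a ha using fun O : X.affineOpens => (key O).2 (rs M (inf_le_right : O.1 ⊓ U ≤ U) s)
    obtain ⟨y, hy⟩ := Groth.L16.HomSh.exists_glue M (fun O : X.affineOpens => O.1) (fun O => le_top) hcov a
      fun O O' => by
        refine Groth.L16.HomSh.ext_cover M (fun P : {P : X.affineOpens // P.1 ≤ O.1 ⊓ O'.1} => P.1.1)
          (fun P => P.2) (fun x hx => by
            obtain ⟨_, ⟨P, hP, rfl⟩, hxP, hPle⟩ := X.isBasis_affineOpens.exists_subset_of_mem_open hx (O.1 ⊓ O'.1).2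
            exact Opens.mem_iSup.2 ⟨⟨⟨P, hP⟩, hPle⟩, hxP⟩) fun P => (key P.1).1 ?_
        have h1 : P.1.1 ⊓ U ≤ O.1 ⊓ U := inf_le_inf_right _ (P.2.trans inf_le_left)
        have h2 : P.1.1 ⊓ U ≤ O'.1 ⊓ U := inf_le_inf_right _ (P.2.trans inf_le_right)
        rw [rs_rs, rs_rs, rs_rs, rs_rs]
        rw [← rs_rs M (inf_le_left : O.1 ⊓ U ≤ O.1) h1, ha, ← rs_rs M (inf_le_left : O'.1 ⊓ U ≤ O'.1) h2, ha,
          rs_rs, rs_rs]
    refine ⟨y, Groth.L16.HomSh.ext_cover M (fun O : X.affineOpens => O.1 ⊓ U) (fun O => inf_le_right)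
      (fun x hx => by
        obtain ⟨O, hO⟩ := Opens.mem_iSup.1 (hcov (trivial : x ∈ (⊤ : X.Opens)))
        exact Opens.mem_iSup.2 ⟨O, hO, hx⟩) fun O => ?_⟩
    rw [rs_rs, ← rs_rs M (le_top : O.1 ≤ ⊤) (inf_le_left : O.1 ⊓ U ≤ O.1), hy O, ha O]

end Groth.L05.BirForms
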