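import Groth.Agent.L05.BirForms.Basis
import Groth.Agent.L05.BirForms.Extend
import Groth.Agent.L05.EulerDiv.PowerFibre
import Groth.Agent.L20.ExtPull
import Groth.Agent.L21.RR.Finite
import Groth.Agent.L21.FreeCurve.Vanish
import Groth.Agent.L03.BlowPt.DetCongr
import Groth.Agent.L26.Weil.Axes
import Groth.Agent.L27.BirPi1.Equiv
import Groth.Agent.S4440

/-!
# Birational invariance of sections of sheaves of differential forms
-/

set_option autoImplicit false
set_option linter.style.haveILetI false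
set_option backward.isDefEq.respectTransparency false
set_option backward.isDefEq.respectTransparency.types false
set_option maxHeartbeats 800000

universe u

open CategoryTheory CategoryTheory.Limits AlgebraicGeometry TopologicalSpace Opposite
open Groth.L18.Frame (rs ro rs_rs ro_ro rs_smul pull pull_rs pull_smul)
open Groth.L19.ProjBdl (IsBasisOn lc coord lc_coord app_rs)
open Groth.L00.Tensor (tensorUnitLeft tensorMap)

noncomputable section

namespace Groth.L05.BirForms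

variable {k : Type u} [Field k]

theorem pull_sum {V Y : Scheme.{u}} (g : V ⟶ Y) (M : Y.Modules) (O : Y.Opens) {ι : Type*} (s : Finset ι)
    (f : ι → Γ(M, O)) : pull g M O (∑ i ∈ s, f i) = ∑ i ∈ s, pull g M O (f i) :=
  map_sum (((Scheme.Modules.pullbackPushforwardAdjunction g).unit.app M).app O).hom _ _

/-- Pulling back to an open is injective. -/
theorem eq_zero_of_pull {V Y : Scheme.{u}} (g : V ⟶ Y) {M : Y.Modules} {W' : Y.Opens} {W : V.Opens}
    (hW : W ≤ g ⁻¹ᵁ W') (hinj : Function.Injective (g.appLE W' W hW)) {n : ℕ} {b : Fin n → Γ(M, W')}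
    (hb : IsBasisOn M W' b) {s : Γ(M, W')} (hs : rs ((Scheme.Modules.pullback g).obj M) hW (pull g M W' s) = 0) :
    s = 0 := by
  let P := (Scheme.Modules.pullback g).obj M
  have h1 : rs P hW (pull g M W' s) =
      lc P (fun i => pull g M W' (b i)) hW fun i => g.appLE W' W hW (coord hb le_rfl s i) := by
    conv_lhs => rw [← lc_coord hb le_rfl s]
    simp only [lc, Groth.L18.Frame.rs_self]
    rw [pull_sum, Groth.L19.ProjBdl.rs_sum]
    refine Finset.sum_congr rfl fun i _ => ?_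
    rw [pull_smul, rs_smul]
    rfl
  have h2 : (fun i => g.appLE W' W hW (coord hb le_rfl s i)) = 0 :=
    ((hb.pullback g) W hW).1 ((h1.symm.trans hs).trans (by simp [lc]))
  rw [← lc_coord hb le_rfl s, show coord hb le_rfl s = 0 from
    funext fun i => hinj ((congrFun h2 i).trans (map_zero _).symm)]
  simp [lc]

section Sections

variable {X X' : Scheme.{u}} [X.Over (Spec (CommRingCat.of k))] [X'.Over (Spec (CommRingCat.of k))]

/-- A map defined off codimension two gives an injection on global sections. -/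
theorem exists_injective_linearMap [IsIntegral X'] [IsLocallyNoetherian X] (hX : Pi1.IsNormalScheme X) (Uo : X.Opens)
    (hUo : ∀ x : X, ringKrullDim (X.presheaf.stalk x) ≤ 1 → x ∈ Uo) (g : Uo.toScheme ⟶ X')
    (hg : g ≫ (X' ↘ Spec (CommRingCat.of k)) = Uo.ι ≫ (X ↘ Spec (CommRingCat.of k))) {A : X.Modules}
    {A' : X'.Modules} (hA : FlatMod.IsFinLocFree A) (hA' : FlatMod.IsFinLocFree A')
    (β : (Scheme.Modules.pullback g).obj A' ⟶ (Scheme.Modules.pullback Uo.ι).obj A) {W : Uo.toScheme.Opens}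
    (hβ : BasisMap β W) {W' : X'.Opens} (hne : (W' : Set X').Nonempty) (hW : W ≤ g ⁻¹ᵁ W')
    (hinj : Function.Injective (g.appLE W' W hW)) {m : ℕ} {b : Fin m → Γ(A', W')} (hb : IsBasisOn A' W' b) :
    ∃ Φ : Coh.HH X' A' 0 →ₗ[k] Coh.HH X A 0, Function.Injective Φ := by
  let e := (Scheme.Modules.restrictFunctorIsoPullback Uo.ι).app A
  have hres := bijective_res_top hX hA (Uo.ι ''ᵁ ⊤)
    fun x hx => by rw [Scheme.Hom.image_top_eq_opensRange, Scheme.Opens.opensRange_ι]; exact hUo x hx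
  let E := Equiv.ofBijective _ hres
  let γ : Γ(A', ⊤) → Γ(A, Uo.ι ''ᵁ ⊤) := fun s =>
    (show Γ(A, Uo.ι ''ᵁ ⊤) from e.inv.app ⊤ (β.app ⊤ (pull g A' ⊤ s)))
  have hγadd : ∀ s t, γ (s + t) = γ s + γ t := fun s t => by
    show e.inv.app ⊤ (β.app ⊤ (pull g A' ⊤ (s + t))) = _
    rw [show pull g A' ⊤ (s + t) = pull g A' ⊤ s + pull g A' ⊤ t from map_add _ _ _]
    exact ((congrArg (fun z => e.inv.app ⊤ z) (map_add (β.app ⊤).hom _ _)).trans (map_add (e.inv.app ⊤).hom _ _))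
  have hconst : ∀ c : k, g.app ⊤ (Coh.toGlobal (X' ↘ Spec (CommRingCat.of k)) c) =
      ro (le_top : Uo.ι ''ᵁ ⊤ ≤ ⊤) (Coh.toGlobal (X ↘ Spec (CommRingCat.of k)) c) := fun c => by
    have h := congrArg Scheme.Hom.appTop hg
    rw [Scheme.Hom.comp_appTop, Scheme.Hom.comp_appTop] at h
    exact congr($h ((Scheme.ΓSpecIso (CommRingCat.of k)).inv c))
  have hγsmul : ∀ (c : k) (s : Γ(A', ⊤)),
      γ ((show Γ(X', ⊤) from Coh.toGlobal (X' ↘ Spec (CommRingCat.of k)) c) • s) =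
        ro (le_top : Uo.ι ''ᵁ ⊤ ≤ ⊤) (Coh.toGlobal (X ↘ Spec (CommRingCat.of k)) c) • γ s := fun c s => by
    show e.inv.app ⊤ (β.app ⊤ (pull g A' ⊤ _)) = _
    rw [pull_smul, hconst]
    refine (congrArg (e.inv.app ⊤) (β.app_smul _ _)).trans ?_
    refine (e.inv.app_smul _ _).trans ?_
    show (show Γ(X, Uo.ι ''ᵁ ⊤) from (Uo.ι.appIso ⊤).inv _) • (show Γ(A, Uo.ι ''ᵁ ⊤) from _) = _
    rw [Scheme.Opens.ι_appIso]
    rfl
  let Φ : Coh.HH X' A' 0 →ₗ[k] Coh.HH X A 0 :=
    { toFun := fun x => (Groth.L21.RR.e0 A).symm (E.symm (γ (Groth.L21.RR.e0 A' x)))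
      map_add' := fun x y => by
        apply (Groth.L21.RR.e0 A).injective
        rw [map_add, map_add, AddEquiv.apply_symm_apply, AddEquiv.apply_symm_apply, AddEquiv.apply_symm_apply]
        apply E.injective
        show rs A le_top (E.symm _) = rs A le_top (E.symm _ + E.symm _)
        rw [show rs A (le_top : Uo.ι ''ᵁ ⊤ ≤ ⊤) (E.symm (γ (Groth.L21.RR.e0 A' x)) + E.symm (γ (Groth.L21.RR.e0 A' y))) =
            rs A le_top (E.symm (γ (Groth.L21.RR.e0 A' x))) + rs A le_top (E.symm (γ (Groth.L21.RR.e0 A' y))) from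
          map_add _ _ _]
        exact (E.apply_symm_apply _).trans ((hγadd _ _).trans
          (congrArg₂ (· + ·) (E.apply_symm_apply _).symm (E.apply_symm_apply _).symm))
      map_smul' := fun c x => by
        apply (Groth.L21.RR.e0 A).injective
        rw [RingHom.id_apply, Groth.L21.RR.e0_smul, Groth.L21.RR.e0_smul, AddEquiv.apply_symm_apply,
          AddEquiv.apply_symm_apply]
        apply E.injective
        show rs A le_top (E.symm _) = rs A le_top ((show Γ(X, ⊤) from _) • E.symm _)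
        rw [rs_smul]
        exact (E.apply_symm_apply _).trans ((hγsmul _ _).trans (congrArg _ (E.apply_symm_apply _).symm)) }
  refine ⟨Φ, (injective_iff_map_eq_zero Φ).2 fun x hx => ?_⟩
  apply (Groth.L21.RR.e0 A').injective
  rw [map_zero]
  generalize hy : Groth.L21.RR.e0 A' x = s
  have h0 : γ s = 0 := by
    have h := (AddEquiv.map_eq_zero_iff _).1 (show (Groth.L21.RR.e0 A).symm (E.symm (γ (Groth.L21.RR.e0 A' x))) = 0 from hx)
    rw [hy] at h
    exact ((E.apply_symm_apply _).symm.trans (congrArg E h)).trans (show rs A le_top (0 : Γ(A, ⊤)) = 0 from map_zero _)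
  have h1 : β.app ⊤ (pull g A' ⊤ s) = 0 :=
    (bijective_app_iso e.symm ⊤).1 (h0.trans (map_zero _).symm)
  have h2 : rs ((Scheme.Modules.pullback g).obj A') hW (pull g A' W' (rs A' le_top s)) = 0 := by
    apply (hβ.bijective le_rfl).1
    rw [← pull_rs g A' (le_top : W' ≤ ⊤), rs_rs, map_zero, app_rs]
    exact (congrArg (rs _ _) h1).trans (map_zero _)
  exact eq_zero_of_rs hA' hne s (eq_zero_of_pull g hW hinj hb h2)

end Sections

section Forms

variable (k) [IsAlgClosed k]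
variable (X X' : Scheme.{u}) [X.Over (Spec (CommRingCat.of k))] [X'.Over (Spec (CommRingCat.of k))]
  [IsIntegral X] [IsIntegral X'] [IsProper (X ↘ Spec (CommRingCat.of k))] [IsProper (X' ↘ Spec (CommRingCat.of k))]

/-- Injections of plurigenera type along a birational map of regular proper varieties. -/
theorem exists_injections {n : ℕ} (hreg : ∀ x : X, IsRegularLocalRing (X.presheaf.stalk x))
    (hreg' : ∀ x : X', IsRegularLocalRing (X'.presheaf.stalk x)) (hn' : topologicalKrullDim X' = n)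
    (U : X.Opens) (U' : X'.Opens) (hU : (U : Set X).Nonempty) (e : U.toScheme ≅ U'.toScheme)
    (he : e.hom ≫ U'.ι ≫ (X' ↘ Spec (CommRingCat.of k)) = U.ι ≫ (X ↘ Spec (CommRingCat.of k)))
    {q : ℕ} {L : X.Modules} (hL : ExtPow.IsExtPow q (Omega.sheaf (X ↘ Spec (CommRingCat.of k))) L)
    {L' : X'.Modules} (hL' : ExtPow.IsExtPow q (Omega.sheaf (X' ↘ Spec (CommRingCat.of k))) L') :
    (∃ Φ : Coh.HH X' L' 0 →ₗ[k] Coh.HH X L 0, Function.Injective Φ) ∧
      ∀ m : ℕ, 1 ≤ m → ∃ Φ : Coh.HH X' (CohB1.tensorPow L' m) 0 →ₗ[k] Coh.HH X (CohB1.tensorPow L m) 0,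
        Function.Injective Φ := by
  let sX := X ↘ Spec (CommRingCat.of k)
  let sY := X' ↘ Spec (CommRingCat.of k)
  haveI : Smooth sX := Groth.L26.Weil.smooth_of_regular_closed sX fun x _ => hreg x
  haveI : Smooth sY := Groth.L26.Weil.smooth_of_regular_closed sY fun x _ => hreg' x
  haveI : IsLocallyNoetherian (Spec (CommRingCat.of k)) := inferInstance
  haveI : IsLocallyNoetherian X := LocallyOfFiniteType.isLocallyNoetherian sX
  have hΩ := Groth.L21.Duality.isFinLocFree_omega sX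
  have hΩ' := Groth.L21.Duality.isFinLocFree_omega sY
  haveI := Groth.L29.DC.PCQCoh.isQCoh_of_isFinLocFree hΩ
  haveI := Groth.L29.DC.PCQCoh.isQCoh_of_isFinLocFree hΩ'
  have hLf := Groth.L12.ExtSh.isFinLocFree_of_isExtPow hΩ hL
  have hLf' := Groth.L12.ExtSh.isFinLocFree_of_isExtPow hΩ' hL'
  have hXn := Groth.L27.BirPi1.isNormal_of_regular hreg
  -- extend to codimension one
  obtain ⟨Uo, hle, g, hg, hgU, hUo⟩ := Groth.Agent.S4440.result sY sX (fun x _ => hreg x) U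
    (U.2.dense hU) (e.hom ≫ U'.ι) ((Category.assoc _ _ _).trans he)
  -- a chart
  obtain ⟨z, hz⟩ := hU
  obtain ⟨⟨U₁, hU₁⟩, t, hxU₁, -, hbasis⟩ :=
    Groth.L12.FrobLift.exists_coords sY n hn' ((e.hom ≫ U'.ι) ⟨z, hz⟩)
  have hzU' : (e.hom ≫ U'.ι) ⟨z, hz⟩ ∈ U₁ ⊓ U' := ⟨hxU₁, (e.hom ⟨z, hz⟩).2⟩
  obtain ⟨_, ⟨W', hW', rfl⟩, hzW', hW'le⟩ :=
    X'.isBasis_affineOpens.exists_subset_of_mem_open hzU' (U₁ ⊓ U').2
  change X'.Opens at W'
  replace hW' : IsAffineOpen W' := hW'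
  change W' ≤ U₁ ⊓ U' at hW'le
  haveI : IsAffine W'.toScheme := hW'
  let j : W'.toScheme ⟶ Uo.toScheme := X'.homOfLE (hW'le.trans inf_le_right) ≫ e.inv ≫ X.homOfLE hle
  have hjg : j ≫ g = W'.ι := by
    simp only [j, Category.assoc, hgU, Iso.inv_hom_id_assoc, Scheme.homOfLE_ι]
  haveI : IsOpenImmersion (j ≫ g) := hjg ▸ inferInstance
  have hrange : (j ≫ g).opensRange = W' := by
    ext x
    change x ∈ Set.range (j ≫ g) ↔ _
    rw [hjg, Scheme.Opens.range_ι]
  haveI : QuasiSeparated (Uo.ι ≫ sX) := inferInstance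
  obtain ⟨c, hc⟩ := exists_diff_basisMap (k := k) (Uo.ι ≫ sX) sY g hg.symm j hU₁
    (hrange.le.trans (hW'le.trans inf_le_left)) t hbasis
  let W := j.opensRange
  have hW : W ≤ g ⁻¹ᵁ W' := by
    rintro _ ⟨w, rfl⟩
    exact hrange.le ⟨w, rfl⟩
  have hinj : Function.Injective (g.appLE W' W hW) := by
    have e1 : (⊤ : W'.toScheme.Opens) ≤ j ⁻¹ᵁ W := fun w _ => ⟨w, rfl⟩
    have h2 : g.appLE W' W hW ≫ j.appLE W ⊤ e1 = W'.ι.appLE W' ⊤ (fun w _ => w.2) := by
      rw [Scheme.Hom.appLE_comp_appLE]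
      simp only [hjg]
    intro a b hab
    have h3 : W'.ι.appLE W' ⊤ (fun w _ => w.2) a = W'.ι.appLE W' ⊤ (fun w _ => w.2) b := by
      rw [← h2]; exact congrArg (j.appLE W ⊤ e1) hab
    haveI : IsIso (W'.ι.appLE W' ⊤ (fun w _ => w.2)) := by
      rw [Scheme.Opens.ι_appLE]
      haveI : IsIso (homOfLE (show W'.ι ''ᵁ ⊤ ≤ W' from (W'.ι.image_top_eq_opensRange.trans W'.opensRange_ι).le)) :=
        ⟨homOfLE (W'.ι.image_top_eq_opensRange.trans W'.opensRange_ι).ge, rfl, rfl⟩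
      infer_instance
    exact (ConcreteCategory.bijective_of_isIso _).1 h3
  -- the wedge map
  haveI : Coh.IsQCoh ((Scheme.Modules.pullback g).obj (Omega.sheaf sY)) := Groth.L16.AffineBC.isQCoh_pullback _ _
  obtain ⟨ε⟩ := Groth.L03.BlowPt.nonempty_omega_restrict sX Uo.ι (Uo.ι ≫ sX) (𝟙 _) (Category.id_comp _).symm
  have hLV : ExtPow.IsExtPow q (Omega.sheaf (Uo.ι ≫ sX)) ((Scheme.Modules.pullback Uo.ι).obj L) :=
    Groth.L20.ExtPull.isExtPow_congr (ε ≪≫ (Scheme.Modules.pullbackId _).app _)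
      (Groth.L20.ExtPull.isExtPow_pullback Uo.ι hL)
  obtain ⟨β, hβ⟩ := exists_wedgeHom c (Groth.L20.ExtPull.isExtPow_pullback g hL') hLV
  have hβW : BasisMap β W := hβ W (isAffineOpen_opensRange j) hc
  have hne : (W' : Set X').Nonempty := ⟨_, hzW'⟩
  have hbY : IsBasisOn (Omega.sheaf sY) W' fun i => rs (Omega.sheaf sY) (hW'le.trans inf_le_left)
      (OmegaSh.dSect sY U₁ (t i)) :=
    IsBasisOn.mono (fun O hO => Groth.L12.FrobLift.isBasisS_dSect sY hU₁ t hbasis O hO) _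
  obtain ⟨φ', hφ'⟩ := id hL'
  obtain ⟨ks⟩ := Groth.L18.PlkAlg.exists_enum q n
  have hbL' := Groth.L12.ExtSh.isBasisOn_extPow φ' hφ' (U := ⟨W', hW'⟩) hbY ks
  refine ⟨exists_injective_linearMap hXn Uo hUo g hg hLf hLf' β hβW hne hW hinj hbL', fun m hm => ?_⟩
  have hpow : ∀ m : ℕ, (∃ γ : CohB1.tensorPow ((Scheme.Modules.pullback g).obj L') (m + 1) ⟶
      CohB1.tensorPow ((Scheme.Modules.pullback Uo.ι).obj L) (m + 1), BasisMap γ W) ∧
      ∃ (r : ℕ) (b : Fin r → Γ(CohB1.tensorPow L' (m + 1), W')), IsBasisOn (CohB1.tensorPow L' (m + 1)) W' b := by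
    intro m
    induction m with
    | zero =>
      exact ⟨⟨_, hβW.iso_comp_iso (tensorUnitLeft _) (tensorUnitLeft _).symm⟩,
        _, _, isBasisOn_iso (tensorUnitLeft L').symm hbL'⟩
    | succ m ih =>
      obtain ⟨⟨γ, hγ⟩, r, b, hb⟩ := ih
      exact ⟨⟨_, hγ.tensor hβW⟩, _, _, Groth.L12.ExtSh.isBasisOn_tens hb hbL'⟩
  obtain ⟨m, rfl⟩ : ∃ d, m = d + 1 := ⟨m - 1, by omega⟩
  obtain ⟨⟨γ, hγ⟩, r, b, hb⟩ := hpow m
  obtain ⟨i₁⟩ := Groth.L05.EulerDiv.nonempty_pullback_tensorPow g L' (m + 1)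
  obtain ⟨i₂⟩ := Groth.L05.EulerDiv.nonempty_pullback_tensorPow Uo.ι L (m + 1)
  exact exists_injective_linearMap hXn Uo hUo g hg
    (Groth.L21.FreeCurve.isFinLocFree_tensorPow hLf (m + 1)) (Groth.L21.FreeCurve.isFinLocFree_tensorPow hLf' (m + 1))
    _ (hγ.iso_comp_iso i₁ i₂.symm) hne hW hinj hb

omit [IsAlgClosed k] in
theorem finrank_eq_of_injections {M N : Type u} [AddCommGroup M] [Module k M] [AddCommGroup N] [Module k N]
    (h : ∃ Φ : M →ₗ[k] N, Function.Injective Φ) (h' : ∃ Φ : N →ₗ[k] M, Function.Injective Φ) :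
    Module.finrank k M = Module.finrank k N := by
  obtain ⟨Φ, hΦ⟩ := h
  obtain ⟨Ψ, hΨ⟩ := h'
  exact congrArg Cardinal.toNat
    (le_antisymm (LinearMap.rank_le_of_injective Φ hΦ) (LinearMap.rank_le_of_injective Ψ hΨ))

/-- Birational invariance of the spaces of forms and pluri-forms. -/
theorem finrank_eq {n : ℕ} (hreg : ∀ x : X, IsRegularLocalRing (X.presheaf.stalk x))
    (hreg' : ∀ x : X', IsRegularLocalRing (X'.presheaf.stalk x)) (hn : topologicalKrullDim X = n)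
    (hn' : topologicalKrullDim X' = n) (U : X.Opens) (U' : X'.Opens) (hU : (U : Set X).Nonempty)
    (e : U.toScheme ≅ U'.toScheme)
    (he : e.hom ≫ U'.ι ≫ (X' ↘ Spec (CommRingCat.of k)) = U.ι ≫ (X ↘ Spec (CommRingCat.of k)))
    {q : ℕ} {L : X.Modules} (hL : ExtPow.IsExtPow q (Omega.sheaf (X ↘ Spec (CommRingCat.of k))) L)
    {L' : X'.Modules} (hL' : ExtPow.IsExtPow q (Omega.sheaf (X' ↘ Spec (CommRingCat.of k))) L') :
    Module.finrank k (Coh.HH X L 0) = Module.finrank k (Coh.HH X' L' 0) ∧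
      ∀ m : ℕ, 1 ≤ m → Module.finrank k (Coh.HH X (CohB1.tensorPow L m) 0) =
        Module.finrank k (Coh.HH X' (CohB1.tensorPow L' m) 0) := by
  have hU' : (U' : Set X').Nonempty := by
    obtain ⟨z, hz⟩ := hU
    exact ⟨(e.hom ⟨z, hz⟩).1, (e.hom ⟨z, hz⟩).2⟩
  have he' : e.symm.hom ≫ U.ι ≫ (X ↘ Spec (CommRingCat.of k)) = U'.ι ≫ (X' ↘ Spec (CommRingCat.of k)) := by
    rw [← he]
    exact Iso.inv_hom_id_assoc _ _
  obtain ⟨h1, h2⟩ := exists_injections k X X' hreg hreg' hn' U U' hU e he hL hL'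
  obtain ⟨h1', h2'⟩ := exists_injections k X' X hreg' hreg hn U' U hU' e.symm he' hL' hL
  exact ⟨finrank_eq_of_injections k h1' h1, fun m hm => finrank_eq_of_injections k (h2' m hm) (h2 m hm)⟩

end Forms

end Groth.L05.BirForms
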